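import Groth.Agent.Lib.Helper2.Stk.Pull
import Groth.Agent.Lib.Helper2.Stk.Exact
import Groth.Agent.Lib.Helper13.KInjAdj

set_option autoImplicit false
universe u
open CategoryTheory CategoryTheory.Limits AlgebraicGeometry TopologicalSpace Opposite

namespace Groth.Agent.Lib.Helper2.Stk

section Mono

variable {X : Scheme.{u}}

/-- a morphism of modules which is injective on all stalks is a monomorphism -/
lemma mono_of_stalks {M N : X.Modules} (φ : M ⟶ N) (h : ∀ x : X, Mono ((Φ x).map φ)) : Mono φ := by
  apply Preadditive.mono_of_isZero_kernel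
  apply isZero_of_forall_isZero_stalk
  intro x
  haveI := h x
  exact (isZero_kernel_of_mono ((Φ x).map φ)).of_iso (PreservesKernel.iso (Φ x) φ)

end Mono

section Flat

variable {X Y : Scheme.{u}} (f : X ⟶ Y) [Flat f]

instance preservesFiniteLimits_pullback_of_flat :
    PreservesFiniteLimits (Scheme.Modules.pullback f) := by
  haveI : PreservesFiniteColimits (Scheme.Modules.pullback f) := by
    have : PreservesColimitsOfSize.{0, 0} (Scheme.Modules.pullback f) :=
      (Scheme.Modules.pullbackPushforwardAdjunction f).leftAdjoint_preservesColimits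
    exact PreservesColimitsOfSize.preservesFiniteColimits _
  haveI : (Scheme.Modules.pullback f).Additive :=
    (Scheme.Modules.pullbackPushforwardAdjunction f).left_adjoint_additive
  rw [Functor.preservesFiniteLimits_iff_forall_exact_map_and_mono]
  intro S hS
  refine ⟨hS.exact.map_of_epi_of_preservesCokernel _ hS.epi_g inferInstance, ?_⟩
  apply mono_of_stalks
  intro x
  haveI := hS.mono_f
  haveI : PreservesFiniteLimits (ModuleCat.extendScalars.{u, u, u} (φst f x)) :=
    ModuleCat.preservesFiniteLimits_extendScalars_of_flat (Flat.stalkMap f x)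
  have h1 : Mono ((Φ (f.base x) ⋙ ModuleCat.extendScalars (φst f x)).map S.f) := by
    rw [Functor.comp_map]
    infer_instance
  have e : (Scheme.Modules.pullback f ⋙ Φ x).map S.f =
      (pullStalkIso f x).hom.app _ ≫
        (Φ (f.base x) ⋙ ModuleCat.extendScalars (φst f x)).map S.f ≫
          (pullStalkIso f x).inv.app _ := by
    rw [← (pullStalkIso f x).hom.naturality_assoc, Iso.hom_inv_id_app, Category.comp_id]
  have h2 : Mono ((Scheme.Modules.pullback f ⋙ Φ x).map S.f) := by
    rw [e]
    haveI m3 : Mono ((pullStalkIso f x).inv.app S.X₂) := IsIso.mono_of_iso _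
    haveI m2 : Mono ((Φ (f.base x) ⋙ ModuleCat.extendScalars (φst f x)).map S.f ≫
        (pullStalkIso f x).inv.app S.X₂) := mono_comp _ _
    haveI m1 : Mono ((pullStalkIso f x).hom.app S.X₁) := IsIso.mono_of_iso _
    exact mono_comp _ _
  exact h2

end Flat

end Groth.Agent.Lib.Helper2.Stk
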