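import Mathlib
import Groth.Agent.Lib.Helper18.DRDesc

/-!
# Finite jointly faithfully flat families of algebras are descent families (helper2)
-/

set_option autoImplicit false
universe u
open TensorProduct

namespace Groth.Agent.Lib.Helper2.Flat.Fam

variable {A : Type u} [CommRing A] {ι : Type} [Finite ι] (B : ι → Type u) [∀ i, CommRing (B i)]
  [∀ i, Algebra A (B i)] [∀ i, Module.Flat A (B i)]

variable (A) in
/-- joint surjectivity on spectra -/
def JointlySurj : Prop :=
  ∀ p : PrimeSpectrum A, ∃ (i : ι) (q : PrimeSpectrum (B i)),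
    PrimeSpectrum.comap (algebraMap A (B i)) q = p

variable {B}

theorem faithfullyFlat_pi (h : JointlySurj A B) : Module.FaithfullyFlat A (∀ i, B i) := by
  classical
  haveI := Fintype.ofFinite ι
  haveI : Module.Flat A (∀ i, B i) :=
    Module.Flat.of_linearEquiv (DirectSum.linearEquivFunOnFintype A ι B).symm
  apply Module.FaithfullyFlat.of_comap_surjective
  intro p
  obtain ⟨i, q, hq⟩ := h p
  refine ⟨PrimeSpectrum.comap (Pi.evalRingHom B i) q, ?_⟩
  rw [← hq]
  rfl

theorem subsingleton_of_forall (h : JointlySurj A B) (M : Type u) [AddCommGroup M] [Module A M]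
    (hM : ∀ i, Subsingleton (B i ⊗[A] M)) : Subsingleton M := by
  classical
  haveI := Fintype.ofFinite ι
  haveI := faithfullyFlat_pi h
  rw [← Module.FaithfullyFlat.subsingleton_tensorProduct_iff_right A (∀ i, B i)]
  exact (TensorProduct.piLeft A M B).toEquiv.subsingleton

theorem injective_of_forall (h : JointlySurj A B) {N P : Type u} [AddCommGroup N] [Module A N]
    [AddCommGroup P] [Module A P] (g : N →ₗ[A] P)
    (hg : ∀ i, Function.Injective (g.lTensor (B i))) : Function.Injective g := by
  rw [← LinearMap.ker_eq_bot]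
  haveI : Subsingleton (LinearMap.ker g) := by
    apply subsingleton_of_forall h
    intro i
    have h1 := Module.Flat.lTensor_preserves_injective_linearMap (M := B i)
      (LinearMap.ker g).subtype (Submodule.injective_subtype _)
    have h2 : (g.lTensor (B i)) ∘ₗ ((LinearMap.ker g).subtype.lTensor (B i)) = 0 := by
      rw [← LinearMap.lTensor_comp]
      have : g ∘ₗ (LinearMap.ker g).subtype = 0 := by
        ext x
        exact x.2
      rw [this, LinearMap.lTensor_zero]
    refine ⟨fun x y => h1 (hg i ?_)⟩
    have hx := LinearMap.congr_fun h2 x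
    have hy := LinearMap.congr_fun h2 y
    simp only [LinearMap.comp_apply, LinearMap.zero_apply] at hx hy
    rw [hx, hy]
  exact Submodule.eq_bot_of_subsingleton

theorem surjective_of_forall (h : JointlySurj A B) {N P : Type u} [AddCommGroup N] [Module A N]
    [AddCommGroup P] [Module A P] (g : N →ₗ[A] P)
    (hg : ∀ i, Function.Surjective (g.lTensor (B i))) : Function.Surjective g := by
  rw [← LinearMap.range_eq_top]
  haveI : Subsingleton (P ⧸ LinearMap.range g) := by
    apply subsingleton_of_forall h
    intro i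
    have h1 : Function.Surjective ((LinearMap.range g).mkQ.lTensor (B i)) :=
      LinearMap.lTensor_surjective _ (Submodule.mkQ_surjective _)
    have h2 : ((LinearMap.range g).mkQ.lTensor (B i)) ∘ₗ (g.lTensor (B i)) = 0 := by
      rw [← LinearMap.lTensor_comp, LinearMap.range_mkQ_comp, LinearMap.lTensor_zero]
    refine ⟨fun x y => ?_⟩
    obtain ⟨x', rfl⟩ := h1 x
    obtain ⟨x'', rfl⟩ := hg i x'
    obtain ⟨y', rfl⟩ := h1 y
    obtain ⟨y'', rfl⟩ := hg i y'
    have hx := LinearMap.congr_fun h2 x''
    have hy := LinearMap.congr_fun h2 y''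
    simp only [LinearMap.comp_apply, LinearMap.zero_apply] at hx hy
    rw [hx, hy]
  exact Submodule.Quotient.subsingleton_iff.1 inferInstance

theorem flat_of_forall (h : JointlySurj A B) (M : Type u) [AddCommGroup M] [Module A M]
    (hM : ∀ i, Module.Flat (B i) (B i ⊗[A] M)) : Module.Flat A M := by
  rw [Module.Flat.iff_lTensor_preserves_injective_linearMap]
  intro N P _ _ _ _ f hf
  apply injective_of_forall h
  intro i
  haveI := hM i
  have : Module.Flat A (B i ⊗[A] M) := Module.Flat.trans _ (B i) _
  have e : LinearMap.lTensor (B i) (LinearMap.lTensor M f) =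
      (TensorProduct.assoc _ _ _ _).toLinearMap ∘ₗ LinearMap.lTensor (B i ⊗[A] M) f ∘ₗ
        (TensorProduct.assoc _ _ _ _).symm.toLinearMap := by
    ext
    simp
  simpa [e] using Module.Flat.lTensor_preserves_injective_linearMap f hf

theorem finite_of_forall (h : JointlySurj A B) (M : Type u) [AddCommGroup M] [Module A M]
    (hM : ∀ i, Module.Finite (B i) (B i ⊗[A] M)) : Module.Finite A M := by
  classical
  haveI := Fintype.ofFinite ι
  choose n s hs using fun i => Module.Finite.exists_fin (R := B i) (M := B i ⊗[A] M)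
  choose k t m hm using fun (x : Σ i, Fin (n i)) => TensorProduct.exists_sum_tmul_eq (s x.1 x.2)
  let f₀ : ((Σ x : (Σ i, Fin (n i)), Fin (k x)) → A) →ₗ[A] M :=
    (Pi.basisFun A _).constr A fun ⟨x, j⟩ ↦ m x j
  apply Module.Finite.of_surjective f₀
  apply surjective_of_forall h
  intro i
  have : Function.Surjective (AlgebraTensorModule.lTensor (B i) (B i) f₀) := by
    rw [← LinearMap.range_eq_top, eq_top_iff, ← hs i, Submodule.span_le, Set.range_subset_iff]
    intro l
    use ∑ (j : Fin (k ⟨i, l⟩)), t ⟨i, l⟩ j ⊗ₜ Pi.basisFun A _ ⟨⟨i, l⟩, j⟩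
    simp [f₀, -Pi.basisFun_equivFun, -Pi.basisFun_apply, hm ⟨i, l⟩]
  exact this

open Groth.Agent.Lib.Helper18.DR in
/-- a finite jointly faithfully flat family is a descent family -/
theorem descFam (h : JointlySurj A B) : DescFam A B where
  zero M _ _ hM := subsingleton_of_forall h M hM
  flat M _ _ hM := flat_of_forall h M hM
  fin M _ _ hM := finite_of_forall h M hM

end Groth.Agent.Lib.Helper2.Flat.Fam
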