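import Groth.Agent.Lib.Helper2.Aff.LpullQCoh
import Groth.Agent.Lib.Helper2.Flat.DescFamily
import Groth.Agent.Lib.Helper13.ClImmPC
import Groth.Agent.Lib.Helper13.PCohSum
import Groth.Agent.Lib.Helper13.QCDim
import Groth.Agent.Lib.Helper18.BCHom6
import Groth.Agent.S1004
import Groth.Agent.S0910

/-!
# fpqc descent of `m`-pseudo-coherence on `D_QCoh` (helper2)
-/

set_option autoImplicit false
universe u
open CategoryTheory CategoryTheory.Limits AlgebraicGeometry TopologicalSpace Opposite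

attribute [local instance] HasDerivedCategory.standard
attribute [local instance] Groth.Agent.Lib.Helper14.preservesFiniteLimits_tilde

namespace Groth.Agent.Lib.Helper2.Flat.PCDesc

open Groth.Agent.Lib.Helper2 Groth.Agent.Lib.Helper3 Groth.Agent.Lib.Helper2.Stk
  Groth.Agent.Lib.Helper2.TExactIso Groth.Agent.Lib.Helper2.Aff Groth.Agent.Lib.Helper13
  Groth.Agent.Lib.Helper2.Flat.Fam Groth.Agent.Lib.Helper13.ClImmPC
  Groth.Agent.Lib.Helper13.PCohSum

section Chart

variable {X' X : Scheme.{u}} (f : X' ⟶ X) [DCoh.HasLpull f]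

/-- chart description of `Lf^*` on `D_QCoh` -/
theorem nonempty_chart_Lpull_iso (K : DCoh.D X) {V : X.Opens} (hV : IsAffineOpen V)
    {U : X'.Opens} (hU : IsAffineOpen U) (hUV : U ≤ f ⁻¹ᵁ V)
    [DRing.HasLBaseChange (f.appLE V U hUV).hom]
    (M : Dual.D Γ(X, V))
    (eM : (DCoh.tildeD Γ(X, V)).obj M ≅
      (Scheme.Modules.restrictFunctor hV.fromSpec).mapDerivedCategory.obj K) :
    Nonempty ((Scheme.Modules.restrictFunctor hU.fromSpec).mapDerivedCategory.obj
        ((DCoh.Lpull f).obj K) ≅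
      (DCoh.tildeD Γ(X', U)).obj ((DRing.LBaseChange (f.appLE V U hUV).hom).obj M)) := by
  let φ : Γ(X, V) ⟶ Γ(X', U) := f.appLE V U hUV
  have hg : Spec.map φ ≫ hV.fromSpec = hU.fromSpec ≫ f :=
    IsAffineOpen.SpecMap_appLE_fromSpec f hV hU hUV
  haveI := hasLpull hU.fromSpec
  haveI := hasLpull hV.fromSpec
  haveI := hasLpull (Spec.map φ)
  haveI := hasLpull (hU.fromSpec ≫ f)
  haveI := hasLpull (Spec.map φ ≫ hV.fromSpec)
  obtain ⟨e1⟩ := nonempty_Lpull_openImmersion_iso hU.fromSpec ((DCoh.Lpull f).obj K)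
  have e2 := (LpullComp hU.fromSpec f).app K
  obtain ⟨e3⟩ := nonempty_Lpull_congr hg.symm K
  have e4 := (LpullComp (Spec.map φ) hV.fromSpec).app K
  obtain ⟨e5⟩ := nonempty_Lpull_openImmersion_iso hV.fromSpec K
  have e6 := (tildeLBaseChangeIso φ.hom).app M
  exact ⟨e1.symm ≪≫ e2 ≪≫ e3 ≪≫ e4.symm ≪≫ (DCoh.Lpull (Spec.map φ)).mapIso e5 ≪≫
    (DCoh.Lpull (Spec.map φ)).mapIso eM.symm ≪≫ e6.symm⟩

end Chart

section Main

variable {X' X : Scheme.{u}} (f : X' ⟶ X) [Flat f] [Surjective f] [QuasiCompact f]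
  [DCoh.HasLpull f]

open Groth.Agent.Lib.Helper18.DR in
/-- **fpqc descent of `m`-pseudo-coherence on `D_QCoh`** -/
theorem isPC_of_isPC_Lpull (E : DCoh.D X) (hE : DCoh.IsQCohD E) (m : ℤ)
    (h : DCoh.IsPseudoCoherentD m ((DCoh.Lpull f).obj E)) : DCoh.IsPseudoCoherentD m E := by
  classical
  apply isPC_of_locally'
  intro x
  obtain ⟨V, hV, hxV⟩ := QCProps.exists_affine_nbhd x
  have hy : x ∈ Set.range hV.fromSpec.base := by
    rw [hV.range_fromSpec]; exact hxV
  obtain ⟨y, hy⟩ := hy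
  refine ⟨_, hV.fromSpec, inferInstance, y, hy, ?_⟩
  have hKV := isQCohD_restrict hV.fromSpec E hE
  obtain ⟨M, ⟨eM⟩⟩ := ((tildeD_fullyFaithful_essImage Γ(X, V)).2.2 _).1 hKV
  refine isPC_of_iso eM ?_
  rw [Groth.Agent.S1004.result]
  -- finite affine cover of `f⁻¹V`
  have hc : IsCompact ((f ⁻¹ᵁ V : X'.Opens) : Set X') := f.isCompact_preimage hV.isCompact
  obtain ⟨T, hT, eT⟩ := QCDim.exists_finset_affine (f ⁻¹ᵁ V) hc
  let e := T.equivFin
  let U : Fin T.card → X'.Opens := fun i => (e.symm i).1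
  have hU : ∀ i, IsAffineOpen (U i) := fun i => hT _ (e.symm i).2
  have hUV : ∀ i, U i ≤ f ⁻¹ᵁ V := fun i => eT ▸ Finset.le_sup (f := id) (e.symm i).2
  let B : Fin T.card → Type u := fun i => Γ(X', U i)
  letI : ∀ i, Algebra Γ(X, V) (B i) := fun i => (f.appLE V (U i) (hUV i)).hom.toAlgebra
  haveI : ∀ i, Module.Flat Γ(X, V) (B i) := fun i => f.flat_appLE hV (hU i) (hUV i)
  have hsurj : JointlySurj Γ(X, V) B := by
    intro p
    obtain ⟨x', hx'⟩ := f.surjective (hV.fromSpec.base p)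
    have hx'V : x' ∈ f ⁻¹ᵁ V := by
      change f.base x' ∈ V
      rw [hx']
      have : hV.fromSpec.base p ∈ Set.range hV.fromSpec.base := ⟨p, rfl⟩
      rw [hV.range_fromSpec] at this
      exact this
    rw [← eT, Finset.sup_eq_iSup] at hx'V
    simp only [id, Opens.mem_iSup] at hx'V
    obtain ⟨W, hW, hx'W⟩ := hx'V
    let i := e ⟨W, hW⟩
    have hUi : U i = W := by
      change (e.symm (e ⟨W, hW⟩)).1 = W
      rw [Equiv.symm_apply_apply]
    have hq : x' ∈ Set.range (hU i).fromSpec.base := by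
      rw [(hU i).range_fromSpec, hUi]; exact hx'W
    obtain ⟨q, hq⟩ := hq
    refine ⟨i, q, ?_⟩
    have hg : Spec.map (f.appLE V (U i) (hUV i)) ≫ hV.fromSpec = (hU i).fromSpec ≫ f :=
      IsAffineOpen.SpecMap_appLE_fromSpec f hV (hU i) (hUV i)
    have h1 : hV.fromSpec.base ((Spec.map (f.appLE V (U i) (hUV i))).base q) =
        hV.fromSpec.base p := by
      rw [← hx', ← hq]
      exact congrArg (fun g : Spec Γ(X', U i) ⟶ X => g.base q) hg
    exact hV.fromSpec.isOpenEmbedding.injective h1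
  have hd := descFam hsurj
  apply hd.isPseudoCoherent m M
  intro i
  haveI hLB : DRing.HasLBaseChange (f.appLE V (U i) (hUV i)).hom :=
    (adapted_baseChangeKh (f.appLE V (U i) (hUV i)).hom).hasLeftDerivedFunctor
  haveI : DRing.HasLBaseChange (algebraMap Γ(X, V) (B i)) := hLB
  obtain ⟨e1⟩ := HomBC.nonempty_LBaseChange_iso_extD (A := Γ(X, V)) (B := B i) M
  refine isPseudoCoherent_of_iso e1 ?_
  rw [← Groth.Agent.S1004.result]
  obtain ⟨e2⟩ := nonempty_chart_Lpull_iso f E hV (hU i) (hUV i) M eM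
  exact isPC_of_iso e2 (isPC_restrict (hU i).fromSpec h)

end Main

end Groth.Agent.Lib.Helper2.Flat.PCDesc
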